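import Cfsg.Agent.H662.GW.Defs

/-!
# Gluck-Wolf, the counting inequality: every vector is fixed by a conjugate of `x`
-/

set_option autoImplicit false
set_option linter.unusedSectionVars false
set_option linter.unusedVariables false

open Subgroup
open scoped Pointwise

namespace Cfsg.Agent.H625.GW

open Cfsg.Agent.H662.GW

section Fix

variable {G W : Type*} [Group G] [AddCommGroup W] [DistribMulAction G W]

/-- Conjugate elements have equally many fixed points. -/
theorem card_fix_conj (g x : G) :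
    Nat.card {w : W // (g * x * g⁻¹) • w = w} = Nat.card {w : W // x • w = w} := by
  refine Nat.card_congr ⟨fun w => ⟨g⁻¹ • w.1, ?_⟩, fun w => ⟨g • w.1, ?_⟩, fun w => ?_, fun w => ?_⟩
  · have h1 := congrArg (fun v : W => g⁻¹ • v) w.2
    simp only [mul_smul, inv_smul_smul] at h1
    exact h1
  · rw [mul_smul, mul_smul, inv_smul_smul, w.2]
  · exact Subtype.ext (smul_inv_smul g w.1)
  · exact Subtype.ext (inv_smul_smul g w.1)

end Fix

section Index

variable {G : Type*} [Group G] [Finite G] {K : Subgroup G} {p : ℕ}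

theorem quot_comm [K.Normal] (hp : p.Prime) (hi : K.index = p) (u v : G ⧸ K) : u * v = v * u := by
  have : Fact p.Prime := ⟨hp⟩
  have h1 : Nat.card (G ⧸ K) = p := hi
  have h2 : IsCyclic (G ⧸ K) := isCyclic_of_prime_card h1
  have h3 : IsMulCommutative (G ⧸ K) := IsCyclic.isMulCommutative
  exact h3.is_comm.comm u v

theorem conj_mul_inv_mem [hK : K.Normal] (hp : p.Prime) (hi : K.index = p) (g x : G) :
    g * x * g⁻¹ * x⁻¹ ∈ K := by
  rw [← QuotientGroup.eq_one_iff]
  simp only [QuotientGroup.mk_mul, QuotientGroup.mk_inv]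
  rw [quot_comm hp hi (g : G ⧸ K) (x : G ⧸ K)]
  group

/-- An element outside `K` has a power of order `p` in each coset of `K`. -/
theorem exists_pow_mem [hK : K.Normal] (hp : p.Prime) (hi : K.index = p) (hc : ¬ p ∣ Nat.card K)
    {g x : G} (hg : g ∉ K) (hx : x ∉ K) : ∃ i : ℕ, (g ^ i) ^ p = 1 ∧ g ^ i * x⁻¹ ∈ K ∧ g ^ i ∉ K := by
  have : Fact p.Prime := ⟨hp⟩
  have h1 : Nat.card (G ⧸ K) = p := hi
  have hcop : (Nat.card K).Coprime p := (Nat.Prime.coprime_iff_not_dvd hp).2 hc |>.symm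
  set y := g ^ Nat.card K with hy
  have hyp : y ^ p = 1 := by
    rw [hy, ← pow_mul]
    have h2 : Nat.card K * p = Nat.card G := by rw [← hi]; exact K.card_mul_index
    rw [h2, pow_card_eq_one']
  have hyK : y ∉ K := by
    intro hmem
    rw [← QuotientGroup.eq_one_iff, hy, QuotientGroup.mk_pow] at hmem
    have h3 : ((g : G ⧸ K)) ^ p = 1 := by rw [← h1]; exact pow_card_eq_one'
    have h4 : ((g : G ⧸ K)) ^ Nat.gcd (Nat.card K) p = 1 := by
      rw [pow_gcd_eq_one]
      exact ⟨hmem, h3⟩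
    rw [hcop, pow_one, QuotientGroup.eq_one_iff] at h4
    exact hg h4
  have hy1 : (y : G ⧸ K) ≠ 1 := fun h => hyK ((QuotientGroup.eq_one_iff y).1 h)
  have h5 : (x : G ⧸ K) ∈ zpowers (y : G ⧸ K) := by
    rw [zpowers_eq_top_of_prime_card h1 hy1]
    exact mem_top _
  obtain ⟨j, hj⟩ := (mem_powers_iff_mem_zpowers.2 h5 : (x : G ⧸ K) ∈ Submonoid.powers _)
  refine ⟨Nat.card K * j, ?_, ?_, ?_⟩
  · rw [pow_mul, ← hy, ← pow_mul, mul_comm, pow_mul, hyp, one_pow]
  · rw [pow_mul, ← hy, ← QuotientGroup.eq_one_iff, QuotientGroup.mk_mul, QuotientGroup.mk_inv,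
      QuotientGroup.mk_pow]
    simp only at hj
    rw [hj, mul_inv_cancel]
  · intro hmem
    rw [pow_mul, ← hy, ← QuotientGroup.eq_one_iff, QuotientGroup.mk_pow] at hmem
    simp only at hj
    rw [hj, QuotientGroup.eq_one_iff] at hmem
    exact hx hmem

theorem card_zpowers_of [hK : K.Normal] (hp : p.Prime) {x : G} (hx : x ∉ K) (hxp : x ^ p = 1) :
    Nat.card (zpowers x) = p := by
  have h1 : orderOf x ∣ p := orderOf_dvd_of_pow_eq_one hxp
  rw [Nat.card_zpowers]
  rcases (Nat.dvd_prime hp).1 h1 with h | h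
  · exact absurd (by rw [orderOf_eq_one_iff.1 h]; exact K.one_mem) hx
  · exact h

/-- Elements of order `p` in the same coset of `K` are conjugate. -/
theorem exists_conj_eq [hK : K.Normal] (hp : p.Prime) (hi : K.index = p) (hc : ¬ p ∣ Nat.card K)
    {x y : G} (hx : x ∉ K) (hxp : x ^ p = 1) (hy : y ∉ K) (hyp : y ^ p = 1) (hxy : y * x⁻¹ ∈ K) :
    ∃ g : G, g * x * g⁻¹ = y := by
  have : Fact p.Prime := ⟨hp⟩
  have hcard : Nat.card K * p = Nat.card G := by rw [← hi]; exact K.card_mul_index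
  have hfac : (Nat.card G).factorization p = 1 := by
    rw [← hcard, Nat.factorization_mul Nat.card_pos.ne' hp.ne_zero, Finsupp.add_apply,
      hp.factorization_self, Nat.factorization_eq_zero_of_not_dvd hc]
  have hPx : Nat.card (zpowers x) = p ^ (Nat.card G).factorization p := by
    rw [hfac, pow_one]; exact card_zpowers_of (K := K) hp hx hxp
  have hPy : Nat.card (zpowers y) = p ^ (Nat.card G).factorization p := by
    rw [hfac, pow_one]; exact card_zpowers_of (K := K) hp hy hyp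
  let P : Sylow p G := Sylow.ofCard (zpowers x) hPx
  let Q : Sylow p G := Sylow.ofCard (zpowers y) hPy
  obtain ⟨g, hg⟩ := MulAction.exists_smul_eq G P Q
  have h1 : g * x * g⁻¹ ∈ (Q : Subgroup G) := by
    rw [← hg]
    rw [Sylow.coe_subgroup_smul]
    have h0 : (MulAut.conj g) • x ∈ MulAut.conj g • (P : Subgroup G) :=
      Subgroup.smul_mem_pointwise_smul x _ _ (mem_zpowers x)
    exact h0
  have h2 : g * x * g⁻¹ ∈ zpowers y := h1
  obtain ⟨m, hm⟩ := mem_zpowers_iff.1 h2
  refine ⟨g, ?_⟩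
  have h3 : ((y : G ⧸ K)) = (x : G ⧸ K) := by
    rw [← mul_inv_eq_one, ← QuotientGroup.mk_inv, ← QuotientGroup.mk_mul, QuotientGroup.eq_one_iff]
    exact hxy
  have h4 : ((x : G ⧸ K)) ^ (m - 1) = 1 := by
    have h5 : ((g * x * g⁻¹ : G) : G ⧸ K) = x := by
      rw [← mul_inv_eq_one, ← QuotientGroup.mk_inv, ← QuotientGroup.mk_mul,
        QuotientGroup.eq_one_iff]
      exact conj_mul_inv_mem hp hi g x
    rw [← hm, QuotientGroup.mk_zpow, h3] at h5
    rw [zpow_sub_one, h5, mul_inv_cancel]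
  have h6 : orderOf (x : G ⧸ K) = p := by
    have h7 : orderOf (x : G ⧸ K) ∣ p := by
      have h8 : ((x : G ⧸ K)) ^ p = 1 := by rw [← QuotientGroup.mk_pow, hxp]; rfl
      exact orderOf_dvd_of_pow_eq_one h8
    rcases (Nat.dvd_prime hp).1 h7 with h | h
    · exact absurd ((QuotientGroup.eq_one_iff x).1 (orderOf_eq_one_iff.1 h)) hx
    · exact h
  have h9 : (p : ℤ) ∣ m - 1 := by
    rw [← h6]; exact orderOf_dvd_iff_zpow_eq_one.2 h4
  have h10 : y ^ (m - 1) = 1 := by
    obtain ⟨t, ht⟩ := h9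
    rw [ht, zpow_mul, zpow_natCast, hyp, one_zpow]
  have h11 : y ^ m = y := by
    have : y ^ m = y ^ (m - 1) * y := by rw [zpow_sub_one]; group
    rw [this, h10, one_mul]
  rw [← hm, h11]

end Index

variable {p r s n : ℕ} {G W Y U : Type*} [Group G] [Finite G] [AddCommGroup W] [Finite W]
  [DistribMulAction G W] [Group Y] [Finite Y] [AddCommGroup U] [Finite U] [DistribMulAction Y U]
  {K L Z : Subgroup G} {π : G →* Y} {a : L →* Multiplicative U}

/-- Every vector is fixed by a conjugate of `x`. -/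
theorem exists_conj_fix (h : LW (W := W) p r s n K L Z π a) {x : G} (hx : x ∉ K) (hxp : x ^ p = 1)
    (w : W) : ∃ g : G, (g * x * g⁻¹) • w = w := by
  have := h.nK
  obtain ⟨g₀, hg₀, hfix⟩ := h.P1 w
  obtain ⟨i, hi1, hi2, hi3⟩ := exists_pow_mem h.hp h.idx h.cop hg₀ hx
  obtain ⟨g, hg⟩ := exists_conj_eq h.hp h.idx h.cop hx hxp hi3 hi1 hi2
  refine ⟨g, ?_⟩
  rw [hg]
  clear hi1 hi2 hi3 hg
  induction i with
  | zero => rw [pow_zero, one_smul]
  | succ i ih => rw [pow_succ, mul_smul, hfix, ih]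

end Cfsg.Agent.H625.GW
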