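import Cfsg.Agent.H625.GW.LWIneq
import Cfsg.Agent.H684.GW.Fix

/-!
# Gluck-Wolf: the counting inequality `LW.ineq` (TEAM GW, piece [I]), unconditional
-/

set_option autoImplicit false

open Subgroup Finset Module
open scoped commutatorElement

namespace Cfsg.Agent.H625.GW

open Cfsg.Agent.H662.GW

universe u v

/-- **[I]** the counting inequality from the module situation -/
theorem ineq {p r s n : ℕ} {G : Type v} {W : Type u} {Y U : Type*} [Group G] [Finite G]
    [AddCommGroup W] [Finite W]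
    [DistribMulAction G W] [Group Y] [Finite Y] [AddCommGroup U] [Finite U] [DistribMulAction Y U]
    {K L Z : Subgroup G} {π : G →* Y} {a : L →* Multiplicative U} (h : LW (W := W) p r s n K L Z π a)
    {x : G} (hx : x ∉ K) (hxp : x ^ p = 1) :
    ∃ f : ℕ, 1 ≤ f ∧ s ∣ r ^ f - 1 ∧
      (((∀ z ∈ Z, ∀ w : W, x • z • w = z • x • w) ∧
         ∀ j ≤ n, Nat.card {u : U // π x • u = u} = s ^ (2 * (n - j)) →
          Ineq p s n j (r ^ f) (Subgroup.centralizer ({π x} : Set Y)).index) ∨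
       (∃ f₀, 1 ≤ f₀ ∧ f = p * f₀ ∧
        ((r ^ f) ^ (s ^ n) - 1) * (r ^ f₀ - 1) * Nat.card {u : U // π x • u = u} ≤
          s ^ (2 * n) * (Subgroup.centralizer ({π x} : Set Y)).index * ((r ^ f₀) ^ (s ^ n) - 1) * (r ^ f - 1))) :=
  ineq_of h hx hxp fun F _ _ _ D hlin j hj hfix =>
    Cfsg.Agent.H684.GW.fix_lin h D hxp hlin hj hfix

end Cfsg.Agent.H625.GW
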