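import Cfsg.Agent.H625.GW.Ineq

/-!
# Gluck-Wolf: the counting inequality, final form (TEAM GW, piece [I])
-/

set_option autoImplicit false
set_option linter.unusedSectionVars false
set_option linter.unusedVariables false

open Subgroup Finset Module
open scoped commutatorElement

namespace Cfsg.Agent.H625.GW

open Cfsg.Agent.H662.GW
open Cfsg.Agent.H684.GW (FD)

universe u v

section Final

variable {p r s n : ℕ} {G : Type v} {W : Type u} {Y U : Type*} [Group G] [Finite G]
  [AddCommGroup W] [Finite W] [DistribMulAction G W] [Group Y] [Finite Y] [AddCommGroup U]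
  [Finite U] [DistribMulAction Y U] {K L Z : Subgroup G} {π : G →* Y} {a : L →* Multiplicative U}

theorem one_le_pow_sub {q : ℕ} (hq : 1 ≤ q) (k : ℕ) : 1 ≤ q ^ k := Nat.one_le_pow _ _ hq

/-- **[I]** the counting inequality, given the bound `hfl` for the fixed points in the linear case. -/
theorem ineq_of (h : LW (W := W) p r s n K L Z π a) {x : G} (hx : x ∉ K) (hxp : x ^ p = 1)
    (hfl : ∀ (F : Type u) [Field F] [Finite F] [Module F W], FD (W := W) F L →
      (∀ (c : F) (w : W), x • (c • w) = c • (x • w)) → ∀ j ≤ n,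
        Nat.card {u : U // π x • u = u} = s ^ (2 * (n - j)) →
        ∃ k, p * k ≤ s ^ n + (p - 1) * s ^ (n - j) ∧ Nat.card {w : W // x • w = w} = Nat.card F ^ k) :
    ∃ f : ℕ, 1 ≤ f ∧ s ∣ r ^ f - 1 ∧
      (((∀ z ∈ Z, ∀ w : W, x • z • w = z • x • w) ∧
         ∀ j ≤ n, Nat.card {u : U // π x • u = u} = s ^ (2 * (n - j)) →
          Ineq p s n j (r ^ f) (Subgroup.centralizer ({π x} : Set Y)).index) ∨
       (∃ f₀, 1 ≤ f₀ ∧ f = p * f₀ ∧
        ((r ^ f) ^ (s ^ n) - 1) * (r ^ f₀ - 1) * Nat.card {u : U // π x • u = u} ≤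
          s ^ (2 * n) * (Subgroup.centralizer ({π x} : Set Y)).index * ((r ^ f₀) ^ (s ^ n) - 1) * (r ^ f - 1))) := by
  classical
  have hnt := h.nt
  obtain ⟨F, _, _, _, D⟩ := Cfsg.Agent.H684.GW.exists_FD (W := W) h.nL h.irr
  obtain ⟨f, hf, hcF⟩ := Cfsg.Agent.H684.GW.exists_card h D
  have hcW := Cfsg.Agent.H684.GW.card_W h D
  have hdv := Cfsg.Agent.H684.GW.dvd_card h D
  refine ⟨f, hf, by rw [← hcF]; exact hdv, ?_⟩
  rw [← hcF]
  have hspos : 0 < s := h.hs.pos
  by_cases hlin : ∀ (c : F) (w : W), x • (c • w) = c • (x • w)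
  · left
    refine ⟨fun z hz w => ?_, fun j hj hfix => ?_⟩
    · obtain ⟨c, hc⟩ := Cfsg.Agent.H684.GW.Z_scal h D hz
      rw [hc, hc, hlin]
    · obtain ⟨k, hk1, hk2⟩ := hfl F D hlin j hj hfix
      refine ⟨k, hk1, ?_⟩
      have h1 := card_RR_le h (cen_comm D) (cen_inv D) (cen_weight h D) hxp (m := 1)
        (fun g l hl S hS => linear_one h D hx hxp hlin g hl S hS)
      rw [hfix, h.card, mul_one] at h1
      have h2 : (RR W x).card ≤ s ^ (2 * j) * (Subgroup.centralizer ({π x} : Set Y)).index := by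
        have h3 : s ^ (2 * n) = s ^ (2 * j) * s ^ (2 * (n - j)) := by
          rw [← pow_add]; congr 1; omega
        rw [h3] at h1
        refine Nat.le_of_mul_le_mul_right ?_ (pow_pos hspos (2 * (n - j)))
        calc (RR W x).card * s ^ (2 * (n - j))
            ≤ (Subgroup.centralizer ({π x} : Set Y)).index * (s ^ (2 * j) * s ^ (2 * (n - j))) := h1
          _ = _ := by ring
      have h4 := card_W_le h hx hxp
      rw [hk2, hcW] at h4
      calc Nat.card F ^ (s ^ n) ≤ (RR W x).card * Nat.card F ^ k := h4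
        _ ≤ (s ^ (2 * j) * (Subgroup.centralizer ({π x} : Set Y)).index) * Nat.card F ^ k :=
          Nat.mul_le_mul_right _ h2
        _ = _ := by ring
  · right
    obtain ⟨σ, hσ⟩ := D.semi x
    have hσ1 : ∃ c, σ c ≠ c := by
      by_contra hcon
      push Not at hcon
      exact hlin fun c w => by rw [hσ, hcon]
    have hσi : ∀ (i : ℕ) (c : F) (w : W), x ^ i • (c • w) = (σ ^ i : F ≃+* F) c • (x ^ i • w) := by
      intro i
      induction i with
      | zero => intro c w; simp
      | succ i ih =>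
        intro c w
        have e1 : ((σ ^ (i + 1) : F ≃+* F)) c = σ ((σ ^ i : F ≃+* F) c) := by
          rw [pow_succ' σ]; rfl
        rw [pow_succ', mul_smul, ih, hσ, e1, mul_smul]
    have hσp : ∀ c : F, (σ ^ p : F ≃+* F) c = c := by
      intro c
      obtain ⟨w, hw⟩ := exists_ne (0 : W)
      have h1 := hσi p c w
      rw [hxp, one_smul, one_smul] at h1
      have h2 : (c - (σ ^ p : F ≃+* F) c) • w = 0 := by rw [sub_smul, ← h1, sub_self]
      rcases smul_eq_zero.1 h2 with h3 | h3
      · exact (sub_eq_zero.1 h3).symm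
      · exact absurd h3 hw
    obtain ⟨S, hS, hcS, hN⟩ := Cfsg.Agent.H684.GW.exists_fixed h.hp σ hσp hσ1
    -- the order of the fixed field
    have hS2 : 1 < Nat.card S := Finite.one_lt_card
    obtain ⟨f₀, -, hf₀⟩ : ∃ f₀ ≤ f, Nat.card S = r ^ f₀ := by
      refine (Nat.dvd_prime_pow h.hr).1 ?_
      rw [← hcF, hcS]
      exact dvd_pow_self _ h.hp.ne_zero
    have hff : f = p * f₀ := by
      have h1 : r ^ f = r ^ (p * f₀) := by
        rw [← hcF, hcS, hf₀, ← pow_mul, mul_comm]
      exact Nat.pow_right_injective h.hr.two_le h1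
    refine ⟨f₀, ?_, hff, ?_⟩
    · rcases Nat.eq_zero_or_pos f₀ with h0 | h0
      · rw [h0, mul_zero] at hff
        omega
      · exact h0
    rw [← hf₀]
    set m := (Nat.card F - 1) / (Nat.card S - 1) with hm
    have hSpos : 0 < Nat.card S - 1 := by omega
    have hmb : ∀ b : F, Nat.card {c : F // ∏ i ∈ range p, (σ ^ i : F ≃+* F) c = b} ≤ m := fun b =>
      (Nat.le_div_iff_mul_le hSpos).2 (hN b)
    have hmle : m * (Nat.card S - 1) ≤ Nat.card F - 1 := Nat.div_mul_le_self _ _
    have h1 := card_RR_le h (cen_comm D) (cen_inv D) (cen_weight h D) hxp (m := m)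
      (fun g l hl T hT => semi_le h D hxp hσ hmb g hl T hT)
    rw [h.card] at h1
    have h2 := card_W_sub_one_le h hx hxp
    have h3 : Nat.card {w : W // x • w = w} ≤ Nat.card S ^ (s ^ n) := by
      have h4 := Cfsg.Agent.H684.GW.card_fix_le (x := DistribSMul.toAddMonoidHom W x)
        (σ := σ) (fun c w => hσ c w) S hS
      rw [Cfsg.Agent.H684.GW.finrank_eq h D] at h4
      exact h4
    rw [hcW] at h2
    calc (Nat.card F ^ (s ^ n) - 1) * (Nat.card S - 1) * Nat.card {u : U // π x • u = u}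
        ≤ ((RR W x).card * (Nat.card {w : W // x • w = w} - 1)) * (Nat.card S - 1) *
            Nat.card {u : U // π x • u = u} := by gcongr
      _ ≤ ((RR W x).card * (Nat.card S ^ (s ^ n) - 1)) * (Nat.card S - 1) *
            Nat.card {u : U // π x • u = u} := by gcongr
      _ = ((RR W x).card * Nat.card {u : U // π x • u = u}) * ((Nat.card S ^ (s ^ n) - 1) *
            (Nat.card S - 1)) := by ring
      _ ≤ ((Subgroup.centralizer ({π x} : Set Y)).index * s ^ (2 * n) * m) *
            ((Nat.card S ^ (s ^ n) - 1) * (Nat.card S - 1)) := by gcongr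
      _ = s ^ (2 * n) * (Subgroup.centralizer ({π x} : Set Y)).index * (Nat.card S ^ (s ^ n) - 1) *
            (m * (Nat.card S - 1)) := by ring
      _ ≤ s ^ (2 * n) * (Subgroup.centralizer ({π x} : Set Y)).index * (Nat.card S ^ (s ^ n) - 1) *
            (Nat.card F - 1) := by gcongr

end Final

end Cfsg.Agent.H625.GW
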